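import Mathlib
import Groth.Prelude.Def_W4c6eohyperellchar2Gc

/-!
# Coordinates on the explicit char 2 Dieudonné modules
-/

set_option autoImplicit false

universe u

open W4c6eohyperellchar2

namespace Groth.Agent.GcMod

variable {c : ℕ} {k : Type u}

theorem coefX_succ [Zero k] (v : GcMod c k) (i : Fin c) : coefX v (i.val + 1) = v.1 i := by
  unfold coefX; rw [dif_pos ⟨by omega, i.isLt⟩]; rfl

theorem coefY_succ [Zero k] (v : GcMod c k) (i : Fin c) : coefY v (i.val + 1) = v.2 i := by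
  unfold coefY; rw [dif_pos ⟨by omega, i.isLt⟩]; rfl

theorem coefX_eq_zero [Zero k] (v : GcMod c k) {n : ℕ} (h : n = 0 ∨ c < n) : coefX v n = 0 :=
  dif_neg (by omega)

theorem coefY_eq_zero [Zero k] (v : GcMod c k) {n : ℕ} (h : n = 0 ∨ c < n) : coefY v n = 0 :=
  dif_neg (by omega)

variable [CommRing k]

theorem coefX_add (v w : GcMod c k) (n : ℕ) : coefX (v + w) n = coefX v n + coefX w n := by
  unfold coefX; split <;> simp

theorem coefY_add (v w : GcMod c k) (n : ℕ) : coefY (v + w) n = coefY v n + coefY w n := by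
  unfold coefY; split <;> simp

theorem coefX_smul (t : k) (v : GcMod c k) (n : ℕ) : coefX (t • v) n = t * coefX v n := by
  unfold coefX; split <;> simp

theorem coefY_smul (t : k) (v : GcMod c k) (n : ℕ) : coefY (t • v) n = t * coefY v n := by
  unfold coefY; split <;> simp

theorem coefX_X (j n : ℕ) : coefX (X c k j) n = if 1 ≤ n ∧ n ≤ c ∧ n = j then 1 else 0 := by
  unfold coefX X
  by_cases h : 1 ≤ n ∧ n ≤ c
  · rw [dif_pos h]; simp only; rw [Nat.sub_add_cancel h.1]; simp [h.1, h.2]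
  · rw [dif_neg h, if_neg fun h' => h ⟨h'.1, h'.2.1⟩]

theorem coefY_Y (j n : ℕ) : coefY (Y c k j) n = if 1 ≤ n ∧ n ≤ c ∧ n = j then 1 else 0 := by
  unfold coefY Y
  by_cases h : 1 ≤ n ∧ n ≤ c
  · rw [dif_pos h]; simp only; rw [Nat.sub_add_cancel h.1]; simp [h.1, h.2]
  · rw [dif_neg h, if_neg fun h' => h ⟨h'.1, h'.2.1⟩]

theorem coefX_Y (j n : ℕ) : coefX (Y c k j) n = 0 := by unfold coefX Y; split <;> simp

theorem coefY_X (j n : ℕ) : coefY (X c k j) n = 0 := by unfold coefY X; split <;> simp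

theorem ext_coef {v w : GcMod c k} (hX : ∀ n, 1 ≤ n → n ≤ c → coefX v n = coefX w n)
    (hY : ∀ n, 1 ≤ n → n ≤ c → coefY v n = coefY w n) : v = w := by
  refine Prod.ext (funext fun i => ?_) (funext fun i => ?_)
  · rw [← coefX_succ, ← coefX_succ]; exact hX _ (by omega) i.isLt
  · rw [← coefY_succ, ← coefY_succ]; exact hY _ (by omega) i.isLt

theorem sum_basis (v : GcMod c k) :
    v = ∑ i : Fin c, v.1 i • X c k (i.val + 1) + ∑ i : Fin c, v.2 i • Y c k (i.val + 1) := by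
  refine Prod.ext (funext fun j => ?_) (funext fun j => ?_) <;>
    simp [X, Y, Prod.fst_sum, Prod.snd_sum, Finset.sum_apply, Fin.ext_iff.symm, Finset.sum_ite_eq, ite_mul, mul_ite]

theorem coefX_F (v : GcMod c k) {n : ℕ} (h1 : 1 ≤ n) (hn : n ≤ c) : coefX (F c k v) n = coefX v (2 * n) ^ 2 := by
  obtain ⟨n, rfl⟩ := Nat.exists_eq_add_of_le' h1
  rw [coefX, dif_pos ⟨h1, hn⟩]
  rfl

theorem coefY_F (v : GcMod c k) {n : ℕ} (h1 : 1 ≤ n) (hn : n ≤ c) :
    coefY (F c k v) n = coefX v (2 * (c - n) + 1) ^ 2 := by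
  obtain ⟨n, rfl⟩ := Nat.exists_eq_add_of_le' h1
  rw [coefY, dif_pos ⟨h1, hn⟩]
  rfl

theorem F_X_even {j l : ℕ} (hj : j = 2 * l) (h1 : 1 ≤ l) (hjc : j ≤ c) : F c k (X c k j) = X c k l := by
  refine ext_coef (fun n h hn => ?_) (fun n h hn => ?_)
  · rw [coefX_F _ h hn, coefX_X, coefX_X]
    by_cases hnl : n = l
    · rw [if_pos ⟨by omega, by omega, by omega⟩, if_pos ⟨h, hn, hnl⟩, one_pow]
    · rw [if_neg (by omega), if_neg (by omega), zero_pow two_ne_zero]
  · rw [coefY_F _ h hn, coefX_X, coefY_X, if_neg (by omega), zero_pow two_ne_zero]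

theorem F_X_odd {j l : ℕ} (hj : j = 2 * l + 1) (hjc : j ≤ c) : F c k (X c k j) = Y c k (c - l) := by
  refine ext_coef (fun n h hn => ?_) (fun n h hn => ?_)
  · rw [coefX_F _ h hn, coefX_X, coefX_Y, if_neg (by omega), zero_pow two_ne_zero]
  · rw [coefY_F _ h hn, coefX_X, coefY_Y]
    by_cases hnl : n = c - l
    · rw [if_pos ⟨by omega, by omega, by omega⟩, if_pos ⟨h, hn, hnl⟩, one_pow]
    · rw [if_neg (by omega), if_neg (by omega), zero_pow two_ne_zero]

variable [ExpChar k 2] [PerfectRing k 2]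

theorem coefX_V (v : GcMod c k) (n : ℕ) : coefX (V c k v) n = 0 := by
  unfold coefX V; split <;> simp

theorem coefY_V (v : GcMod c k) {n : ℕ} (h1 : 1 ≤ n) (hn : n ≤ c) :
    coefY (V c k v) n = if n % 2 = 0 then (frobeniusEquiv k 2).symm (coefY v (n / 2))
      else (frobeniusEquiv k 2).symm (coefX v ((2 * c + 1 - n) / 2)) := by
  obtain ⟨n, rfl⟩ := Nat.exists_eq_add_of_le' h1
  rw [coefY, dif_pos ⟨h1, hn⟩]
  simp only [V, Nat.add_sub_cancel, Nat.add_sub_add_right]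

theorem V_Y {j : ℕ} (h1 : 1 ≤ j) (hjc : 2 * j ≤ c) : V c k (Y c k j) = Y c k (2 * j) := by
  refine ext_coef (fun n h hn => by rw [coefX_V, coefX_Y]) (fun n h hn => ?_)
  rw [coefY_V _ h hn, coefY_Y, coefY_Y, coefX_Y]
  by_cases hev : n % 2 = 0
  · rw [if_pos hev]
    by_cases hnl : n = 2 * j
    · rw [if_pos ⟨by omega, by omega, by omega⟩, if_pos ⟨h, hn, hnl⟩, map_one]
    · rw [if_neg (by omega), if_neg (by omega), map_zero]
  · rw [if_neg hev, map_zero, if_neg (by omega)]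

theorem V_X {j : ℕ} (hjc : j ≤ c) (hcj : c < 2 * j) : V c k (X c k j) = Y c k (2 * c - 2 * j + 1) := by
  refine ext_coef (fun n h hn => by rw [coefX_V, coefX_Y]) (fun n h hn => ?_)
  rw [coefY_V _ h hn, coefY_X, coefX_X, coefY_Y]
  by_cases hev : n % 2 = 0
  · rw [if_pos hev, map_zero, if_neg (by omega)]
  · rw [if_neg hev]
    by_cases hnl : n = 2 * c - 2 * j + 1
    · rw [if_pos ⟨by omega, by omega, by omega⟩, if_pos ⟨h, hn, hnl⟩, map_one]
    · rw [if_neg (by omega), if_neg (by omega), map_zero]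

end Groth.Agent.GcMod
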